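import Groth.Agent.Lib.LefEt7.Completion
import Groth.Agent.Lib.LefEt7.Sec
import Groth.Agent.Lib.FEt21.DepthTwo
import Groth.Agent.Lib.Ref1.Push
import Groth.Agent.Lib.Punctured.CoherentCohom
import Groth.Agent.Lib.FSchSys.PowLE
import Groth.Agent.Lib.LefPic7.Step
import Groth.Prelude.Def_Lef

/-!
# The Lefschetz bijectivity on an open from the ambient scheme
-/

set_option autoImplicit false
set_option linter.style.haveILetI false

universe u

open CategoryTheory CategoryTheory.Limits AlgebraicGeometry TopologicalSpace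

namespace GrothLib.LefAmp7

variable {X : Scheme.{u}}

/-- Direct images of structure modules along a factorisation. -/
noncomputable def pushTrans {Z' Z : Scheme.{u}} (j : Z' ⟶ Z) (i : Z ⟶ X) {k : Z' ⟶ X} (e : j ≫ i = k) :
    (Scheme.Modules.pushforward i).obj (Coh.structureModule Z) ⟶
      (Scheme.Modules.pushforward k).obj (Coh.structureModule Z') :=
  (Scheme.Modules.pushforward i).map (ClSub.unitToPush j) ≫
    (Scheme.Modules.pushforwardComp j i).hom.app _ ≫ (Scheme.Modules.pushforwardCongr e).hom.app _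

theorem unitToPush_pushTrans {Z' Z : Scheme.{u}} (j : Z' ⟶ Z) (i : Z ⟶ X) {k : Z' ⟶ X} (e : j ≫ i = k) :
    ClSub.unitToPush i ≫ pushTrans j i e = ClSub.unitToPush k :=
  LefEt7.unitToPush_trans e

theorem isIso_unitToPush_of_bijective {Z Y : Scheme.{u}} (f : Z ⟶ Y)
    (h : ∀ W : Y.Opens, Function.Bijective (f.app W)) : IsIso (ClSub.unitToPush f) := by
  rw [Scheme.Modules.Hom.isIso_iff_isIso_app]
  intro W
  rw [ConcreteCategory.isIso_iff_bijective]
  exact h W

theorem isIso_unitToPush_of_isIso {Z Y : Scheme.{u}} (f : Z ⟶ Y) [IsIso f] : IsIso (ClSub.unitToPush f) :=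
  isIso_unitToPush_of_bijective f fun _ => ConcreteCategory.bijective_of_isIso _

theorem isIso_pushTrans_of_isIso {Z' Z : Scheme.{u}} (j : Z' ⟶ Z) [IsIso j] (i : Z ⟶ X) {k : Z' ⟶ X}
    (e : j ≫ i = k) : IsIso (pushTrans j i e) := by
  haveI := isIso_unitToPush_of_isIso j
  unfold pushTrans
  infer_instance

/-- A subscheme supported in an open is that of the pulled back ideal. -/
theorem exists_iso_subscheme_comap (I : X.IdealSheafData) (U : X.Opens) (hU : (I.support : Set X) ⊆ U) :
    ∃ k : (I.comap U.ι).subscheme ⟶ I.subscheme, IsIso k ∧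
      k ≫ I.subschemeι = (I.comap U.ι).subschemeι ≫ U.ι := by
  haveI : IsIso (pullback.snd U.ι I.subschemeι) := by
    haveI : IsOpenImmersion (pullback.snd U.ι I.subschemeι) := inferInstance
    haveI : Epi (pullback.snd U.ι I.subschemeι).base := by
      rw [TopCat.epi_iff_surjective]
      intro z
      have hz : I.subschemeι z ∈ (U : Set X) := hU (I.range_subschemeι ▸ ⟨z, rfl⟩)
      obtain ⟨w, -, hw⟩ := Scheme.Pullback.exists_preimage_pullback ⟨_, hz⟩ z (f := U.ι) (g := I.subschemeι) rfl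
      exact ⟨w, hw⟩
    exact IsOpenImmersion.isIso (pullback.snd U.ι I.subschemeι)
  refine ⟨(I.comapIso U.ι).hom ≫ pullback.snd U.ι I.subschemeι, inferInstance, ?_⟩
  rw [Category.assoc, ← pullback.condition, ← Category.assoc]
  congr 1
  exact I.comapIso_hom_fst U.ι

variable {U : X.Opens}

/-- Reduction of the bijectivity on an open to the ambient scheme. -/
theorem homBij_open (𝓘 : X.IdealSheafData) (hU : (𝓘.support : Set X) ⊆ U)
    (hbij : ∀ W : X.Opens, Function.Bijective (U.ι.app W)) {D : (U : Scheme.{u}).Modules} {D' : X.Modules}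
    (e : (Scheme.Modules.restrictFunctor U.ι).obj D' ≅ D) (h : Lef.HomToFormalBijective 𝓘 D') :
    Lef.HomToFormalBijective (𝓘.comap U.ι) D := by
  let 𝓙 := 𝓘.comap U.ι
  let adj := Scheme.Modules.restrictAdjunction U.ι
  let j := Scheme.Modules.pushforward U.ι
  have hs : ∀ n, ((𝓘 ^ (n + 1)).support : Set X) ⊆ U := fun n => by
    rw [Scheme.IdealSheafData.support_pow_succ]; exact hU
  choose k hk hke using fun n => exists_iso_subscheme_comap (𝓘 ^ (n + 1)) U (hs n)
  have hJ : ∀ n, (𝓘 ^ (n + 1)).comap U.ι = 𝓙 ^ (n + 1) := fun n => GrothLib.FSchSys.comap_pow _ _ _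
  -- the comparison of the quotient modules
  let w : Coh.structureModule X ⟶ j.obj (Coh.structureModule U) := ClSub.unitToPush U.ι
  haveI : IsIso w := isIso_unitToPush_of_bijective U.ι hbij
  have hν : ∀ n, ∃ ν : ClSub.quotMod (𝓘 ^ (n + 1)) ≅ j.obj (ClSub.quotMod (𝓙 ^ (n + 1))),
      ClSub.toSubscheme (𝓘 ^ (n + 1)) ≫ ν.hom = w ≫ j.map (ClSub.toSubscheme (𝓙 ^ (n + 1))) := by
    intro n
    rw [← hJ]
    haveI := hk n
    let ι' := ((𝓘 ^ (n + 1)).comap U.ι).subschemeι
    haveI := isIso_pushTrans_of_isIso (k n) (𝓘 ^ (n + 1)).subschemeι (hke n)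
    refine ⟨asIso (pushTrans (k n) (𝓘 ^ (n + 1)).subschemeι (hke n)) ≪≫
      ((Scheme.Modules.pushforwardComp ι' U.ι).app (Coh.structureModule _)).symm, ?_⟩
    have h1 := unitToPush_pushTrans (k n) (𝓘 ^ (n + 1)).subschemeι (hke n)
    have h2 := LefEt7.unitToPush_trans (j := ι') (i := U.ι) (rfl : ι' ≫ U.ι = ι' ≫ U.ι)
    have h3 : (Scheme.Modules.pushforwardCongr (rfl : ι' ≫ U.ι = ι' ≫ U.ι)).hom.app
        (Coh.structureModule ((𝓘 ^ (n + 1)).comap U.ι).subscheme) = 𝟙 _ := by
      refine Scheme.Modules.hom_ext _ _ fun V => ?_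
      rw [Scheme.Modules.pushforwardCongr_hom_app_app]
      exact (Coh.structureModule _).presheaf.map_id _
    rw [h3, Category.comp_id] at h2
    rw [Iso.trans_hom, ← Category.assoc, Iso.symm_hom, Iso.app_inv]
    refine (congrArg (· ≫ _) (h1.trans h2.symm)).trans ?_
    simp only [Category.assoc]
    refine congrArg (w ≫ ·) ?_
    exact (congrArg (_ ≫ ·) ((Scheme.Modules.pushforwardComp ι' U.ι).hom_inv_id_app _)).trans (Category.comp_id _)
  choose ν hν using hν
  have hquot : ∀ n, Lef.quotMap (Lef.pow_succ_le 𝓘 n) ≫ (ν n).hom =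
      (ν (n + 1)).hom ≫ j.map (Lef.quotMap (Lef.pow_succ_le 𝓙 n)) := fun n => by
    haveI := Euler.epi_toSubscheme (𝓘 ^ (n + 2))
    rw [← cancel_epi (ClSub.toSubscheme (𝓘 ^ (n + 2))), ← Category.assoc, LefEt7.toSubscheme_quotMap, hν,
      ← Category.assoc, hν (n + 1), Category.assoc, ← Functor.map_comp, LefEt7.toSubscheme_quotMap]
  -- transport of morphisms
  let T : ∀ {M : (U : Scheme.{u}).Modules}, (D ⟶ M) ≃ (D' ⟶ j.obj M) := fun {M} =>
    e.symm.homFromEquiv.trans (adj.homEquiv D' M)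
  have hT : ∀ {M N : (U : Scheme.{u}).Modules} (f : D ⟶ M) (g : M ⟶ N), T (f ≫ g) = T f ≫ j.map g := by
    intro M N f g
    simp only [T, Equiv.trans_apply, Iso.homFromEquiv_apply, Iso.symm_inv, ← Category.assoc]
    exact adj.homEquiv_naturality_right _ _
  constructor
  · intro φ ψ hφ
    apply T.injective
    rw [← cancel_mono (inv w)]
    refine h.1 _ _ fun n => ?_
    rw [← cancel_mono (ν n).hom]
    simp only [Category.assoc, hν, IsIso.inv_hom_id_assoc]
    rw [← hT, ← hT]
    exact congrArg T (hφ n)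
  · intro y hy
    obtain ⟨φ, hφ⟩ := h.2 (fun n => T (y n) ≫ (ν n).inv) fun n => by
      rw [← cancel_mono (ν n).hom]
      simp only [Category.assoc, hquot, Iso.inv_hom_id, Iso.inv_hom_id_assoc, Category.comp_id]
      rw [← hT]
      exact congrArg T (hy n)
    refine ⟨T.symm (φ ≫ w), fun n => T.injective ?_⟩
    rw [hT, Equiv.apply_symm_apply, Category.assoc, ← hν, ← Category.assoc, hφ, Category.assoc, Iso.inv_hom_id,
      Category.comp_id]

end GrothLib.LefAmp7
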