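import Groth.Agent.Lib.Ample.Criterion
import Groth.Agent.Lib.Ample.Calculus
import Groth.Agent.Lib.Cube.DivisorSection
import Groth.Agent.Lib.Euler.AmpleComponents
import Groth.Agent.Lib.Euler.Basic
import Mathlib.AlgebraicGeometry.Morphisms.QuasiFinite
import Groth.Agent.Lib.AmpleDesc.Main
import Mathlib.AlgebraicGeometry.QuasiAffine

/-!
# Points away from an ample divisor
-/

set_option autoImplicit false
set_option linter.style.haveILetI false

universe u

open CategoryTheory CategoryTheory.Limits AlgebraicGeometry TopologicalSpace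

namespace GrothLib.LefAmp7

variable {X : Scheme.{u}} (k : Type u) [Field k] [X.Over (Spec (CommRingCat.of k))]
  [IsProper (X ↘ Spec (CommRingCat.of k))]

include k in
/-- A closed point subset of a quasi-affine open of a proper scheme consists of closed points. -/
theorem isClosed_of_closure_subset (W : X.Opens) [(W : Scheme.{u}).IsQuasiAffine] {x : X}
    (hx : closure ({x} : Set X) ⊆ W) : IsClosed ({x} : Set X) := by
  let T : Closeds X := ⟨closure {x}, isClosed_closure⟩
  let C := (Scheme.IdealSheafData.vanishingIdeal T).subscheme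
  let j : C ⟶ X := (Scheme.IdealSheafData.vanishingIdeal T).subschemeι
  have hrange : Set.range j = closure ({x} : Set X) := by
    rw [Scheme.IdealSheafData.range_subschemeι, Scheme.IdealSheafData.coe_support_vanishingIdeal]
    rfl
  let s : C ⟶ Spec (CommRingCat.of k) := j ≫ X ↘ Spec (CommRingCat.of k)
  haveI : IsProper s := inferInstance
  let jW : C ⟶ W := IsOpenImmersion.lift W.ι j (by rw [Scheme.Opens.range_ι, hrange]; exact hx)
  haveI : IsImmersion (jW ≫ W.ι) := by rw [IsOpenImmersion.lift_fac]; infer_instance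
  haveI : IsImmersion jW := IsImmersion.of_comp jW W.ι
  let φ : C ⟶ Spec Γ(W, ⊤) := jW ≫ (W : Scheme.{u}).toSpecΓ
  let q : Spec Γ(W, ⊤) ⟶ Spec (CommRingCat.of k) :=
    Spec.map ((Scheme.ΓSpecIso (CommRingCat.of k)).inv ≫ (W.ι ≫ X ↘ Spec (CommRingCat.of k)).appTop)
  have hφq : φ ≫ q = s := by
    simp only [q, φ, s, Spec.map_comp, Category.assoc]
    rw [← Scheme.toSpecΓ_naturality_assoc]
    simp only [Category.assoc, toSpecΓ_SpecMap_ΓSpecIso_inv, Category.comp_id]
    exact IsOpenImmersion.lift_fac_assoc _ _ _ _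
  haveI : IsProper (φ ≫ q) := by rw [hφq]; infer_instance
  haveI : IsProper φ := IsProper.of_comp φ q
  haveI : IsClosedImmersion φ :=
    IsClosedImmersion.of_isPreimmersion φ φ.isClosedMap.isClosed_range
  haveI : IsAffine C := isAffine_of_isAffineHom φ
  haveI : IsFinite s := IsFinite.iff_isProper_and_isAffineHom.2 ⟨inferInstance, inferInstance⟩
  haveI : Subsingleton ↥(Spec (CommRingCat.of k)) := inferInstanceAs (Subsingleton (PrimeSpectrum k))
  haveI : Finite C := by
    obtain ⟨pt⟩ : Nonempty ↥(Spec (CommRingCat.of k)) := inferInstanceAs (Nonempty (PrimeSpectrum k))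
    have h := s.finite_preimage_singleton pt
    rw [show s ⁻¹' {pt} = Set.univ from Set.eq_univ_of_forall fun c => Subsingleton.elim _ _] at h
    exact Set.finite_univ_iff.1 h
  haveI : JacobsonSpace C := LocallyOfFiniteType.jacobsonSpace s
  obtain ⟨c, hc⟩ : x ∈ Set.range j := hrange ▸ subset_closure rfl
  have hcl := j.isClosedEmbedding.isClosedMap _ (isClosed_discrete ({c} : Set C))
  rwa [Set.image_singleton, hc] at hcl

include k in
/-- Points outside a neighbourhood of an ample divisor are closed. -/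
theorem isClosed_of_notMem (𝓘 : X.IdealSheafData) {L : X.Modules}
    (hL : ClSub.IsInverseOf L (ClSub.idealMod 𝓘)) (hI : PicF.IsInvertible (ClSub.idealMod 𝓘))
    (hamp : CohB1.IsAmple L) {U : X.Opens}
    (hU : (𝓘.support : Set X) ⊆ U) {x : X} (hx : x ∉ U) : IsClosed ({x} : Set X) := by
  haveI := Euler.isNoetherian_of_proper (X := X) k
  obtain ⟨c, a, hcls, hloc⟩ := Cube.hasSec_compl_support (IdealModSec.isEffCartier_of_isInvertible hI)
  rw [← Cube.clsMod_eq_inv_of_isInverseOf hamp.1 hI hL] at hcls
  obtain ⟨e₀⟩ := Cube.cls_eq_iff.1 (hcls.symm : Cube.cls _ = Cube.cls c)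
  let e : L ≅ c.twist 1 := (Ample.exists_cocycle hamp.1).choose_spec.some ≪≫ e₀
  haveI : (c.locus a : Scheme.{u}).IsQuasiAffine := c.isQuasiAffine_locus ((c.isAmple_iff e).1 hamp).2 (n := 0) a
  refine isClosed_of_closure_subset k (c.locus a) fun z hz => ?_
  rw [hloc]
  exact fun hzY => ((closure_minimal (Set.singleton_subset_iff.2 hx) U.2.isClosed_compl) hz) (hU hzY)

end GrothLib.LefAmp7
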