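import Groth.Agent.Lib.LocFreeDual20.ExtGlobal
import Groth.Agent.Lib.LocFreeHom.Basic
import Groth.Agent.Lib.LocZ25.Sections
import Groth.Agent.Lib.ConnH0.Basic
import Groth.Agent.Lib.NegTwist.H1
import Groth.Agent.Lib.NegTwist.H0
import Groth.Agent.Lib.LefEt7.Sec
import Groth.Agent.Lib.ArSurf29.Inter
import Groth.Agent.Lib.OX.FlatLocFree
import Groth.Agent.Lib.Euler.CurveVanish
import Groth.Agent.Lib.CurveMult.GGCurve
import Groth.Prelude.Def_Lef

/-!
# Morphisms to `O` and to its completion along an ample divisor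
-/

set_option autoImplicit false
set_option linter.style.haveILetI false

universe u

open CategoryTheory CategoryTheory.Limits AlgebraicGeometry CategoryTheory.Abelian

namespace GrothLib.LefAmp7

attribute [local instance] LocFreeHom.hasSheafHom

variable {X : Scheme.{u}}

theorem exists_comp_idealι (J : X.IdealSheafData) {P : X.Modules} (φ : P ⟶ Coh.structureModule X)
    (h : φ ≫ ClSub.toSubscheme J = 0) : ∃ ψ : P ⟶ ClSub.idealMod J, ψ ≫ ClSub.idealModι J = φ :=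
  ⟨kernel.lift _ φ h, kernel.lift_ι _ _ _⟩

variable [HasExt.{u} X.Modules]

theorem subsingleton_hom {P B : X.Modules} (h : Subsingleton (Ext P B 0)) : Subsingleton (P ⟶ B) :=
  ⟨fun _ _ => (Ext.mk₀_bijective P B).1 (h.elim _ _)⟩

theorem exists_mk₀_lift {M₁ M₂ M₃ : X.Modules} {i : M₁ ⟶ M₂} {p : M₂ ⟶ M₃} {w : i ≫ p = 0}
    (hS : (ShortComplex.mk i p w).ShortExact) {P : X.Modules}
    (h : Subsingleton (Ext P M₁ 1)) (y : P ⟶ M₃) : ∃ φ : P ⟶ M₂, φ ≫ p = y := by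
  have hz : (Ext.mk₀ y).comp hS.extClass (zero_add 1) = 0 := @Subsingleton.elim _ h _ _
  obtain ⟨z, hz'⟩ := Ext.covariant_sequence_exact₃ P hS (Ext.mk₀ y) (zero_add 1) hz
  obtain ⟨φ, rfl⟩ := (Ext.mk₀_bijective P _).2 z
  exact ⟨φ, (Ext.mk₀_bijective P _).1 ((Ext.mk₀_comp_mk₀ φ p).symm.trans hz')⟩

theorem exists_lift (J : X.IdealSheafData) {P : X.Modules} (h : Subsingleton (Ext P (ClSub.idealMod J) 1))
    (y : P ⟶ ClSub.quotMod J) : ∃ φ : P ⟶ Coh.structureModule X, φ ≫ ClSub.toSubscheme J = y :=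
  exists_mk₀_lift (i := ClSub.idealModι J) (p := ClSub.toSubscheme J) (w := kernel.condition _)
    (ConnH0.shortExact_ideal J) h y

/-- Eventual vanishing of Ext into the powers gives bijectivity. -/
theorem homBij_of_vanish (𝓘 : X.IdealSheafData) (P : X.Modules)
    (h : ∃ n₀, ∀ n, n₀ ≤ n → Subsingleton (Ext P (ClSub.idealMod (𝓘 ^ (n + 1))) 0) ∧
      Subsingleton (Ext P (ClSub.idealMod (𝓘 ^ (n + 1))) 1)) :
    Lef.HomToFormalBijective 𝓘 P := by
  obtain ⟨n₀, hn₀⟩ := h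
  have inj : ∀ n, n₀ ≤ n → ∀ φ ψ : P ⟶ Coh.structureModule X,
      φ ≫ ClSub.toSubscheme (𝓘 ^ (n + 1)) = ψ ≫ ClSub.toSubscheme (𝓘 ^ (n + 1)) → φ = ψ := by
    intro n hn φ ψ he
    obtain ⟨χ, hχ⟩ := exists_comp_idealι (𝓘 ^ (n + 1)) (φ - ψ) (by rw [Preadditive.sub_comp, he, sub_self])
    rw [← sub_eq_zero, ← hχ, (subsingleton_hom (hn₀ n hn).1).elim χ 0, zero_comp]
  refine ⟨fun φ ψ he => inj n₀ le_rfl φ ψ (he n₀), fun y hy => ?_⟩
  choose φ hφ using fun k => exists_lift (𝓘 ^ (n₀ + k + 1)) (hn₀ (n₀ + k) (Nat.le_add_right _ _)).2 (y (n₀ + k))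
  have hstep : ∀ m (χ : P ⟶ Coh.structureModule X), χ ≫ ClSub.toSubscheme (𝓘 ^ (m + 1 + 1)) = y (m + 1) →
      χ ≫ ClSub.toSubscheme (𝓘 ^ (m + 1)) = y m := fun m χ hχ => by
    rw [← LefEt7.toSubscheme_quotMap (Lef.pow_succ_le 𝓘 m), ← Category.assoc]
    refine Eq.trans ?_ (hy m)
    exact congrArg (· ≫ _) hχ
  have hdown : ∀ j n (χ : P ⟶ Coh.structureModule X), χ ≫ ClSub.toSubscheme (𝓘 ^ (n + j + 1)) = y (n + j) →
      χ ≫ ClSub.toSubscheme (𝓘 ^ (n + 1)) = y n := by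
    intro j
    induction j with
    | zero => exact fun n χ hχ => hχ
    | succ j ih => exact fun n χ hχ => ih n χ (hstep (n + j) χ hχ)
  have hle : ∀ m n, n ≤ m → ∀ χ : P ⟶ Coh.structureModule X, χ ≫ ClSub.toSubscheme (𝓘 ^ (m + 1)) = y m →
      χ ≫ ClSub.toSubscheme (𝓘 ^ (n + 1)) = y n := by
    intro m n h χ hχ
    obtain ⟨j, hj⟩ := Nat.exists_eq_add_of_le h
    subst hj
    exact hdown j n χ hχ
  refine ⟨φ 0, fun n => hle (n₀ + n) n (Nat.le_add_left n n₀) _ ?_⟩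
  have h1 := hdown n n₀ (φ n) (hφ n)
  have h2 := hdown 0 n₀ (φ 0) (hφ 0)
  rw [← inj n₀ le_rfl (φ n) (φ 0) (h1.trans h2.symm)]
  exact hφ n

omit [HasExt.{u} X.Modules] in
/-- Bijectivity passes to quotients with injectivity on a cover of the kernel. -/
theorem homBij_of_epi (𝓘 : X.IdealSheafData) {D P P₁ : X.Modules} (q : P ⟶ D) [Epi q] (r : P₁ ⟶ kernel q)
    [Epi r] (hP : Lef.HomToFormalBijective 𝓘 P) (hP₁ : Lef.HomToFormalBijective 𝓘 P₁) :
    Lef.HomToFormalBijective 𝓘 D := by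
  refine ⟨fun φ ψ he => (cancel_epi q).1 (hP.1 _ _ fun n => by simp only [Category.assoc, he n]), fun y hy => ?_⟩
  obtain ⟨χ, hχ⟩ := hP.2 (fun n => q ≫ y n) fun n => by rw [Category.assoc, hy n]
  have hk : kernel.ι q ≫ χ = 0 := (cancel_epi r).1 (hP₁.1 _ _ fun n => by
    rw [comp_zero, zero_comp, Category.assoc, Category.assoc, hχ n, ← Category.assoc (kernel.ι q),
      kernel.condition, zero_comp, comp_zero])
  refine ⟨Abelian.epiDesc q χ hk, fun n => ?_⟩
  rw [← cancel_epi q, ← Category.assoc, Abelian.comp_epiDesc, hχ n]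

omit [HasExt.{u} X.Modules] in
theorem exists_epi_of_map (G : X.Modules ⥤ X.Modules) [G.PreservesEpimorphisms] {F E' E : X.Modules}
    (p : F ⟶ E') [Epi p] (a : G.obj E' ≅ E) (h : FlatMod.IsFinLocFree (G.obj F)) :
    ∃ (P : X.Modules) (q : P ⟶ E), FlatMod.IsFinLocFree P ∧ Epi q :=
  ⟨G.obj F, G.map p ≫ a.hom, h, inferInstance⟩

section Ample

variable (k : Type u) [Field k] [X.Over (Spec (CommRingCat.of k))] [IsProper (X ↘ Spec (CommRingCat.of k))]

omit [HasExt.{u} X.Modules] in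
theorem isInvertible_idealMod_of_inverse {𝓘 : X.IdealSheafData} {L : X.Modules} (hL : PicF.IsInvertible L)
    (h : ClSub.IsInverseOf L (ClSub.idealMod 𝓘)) : PicF.IsInvertible (ClSub.idealMod 𝓘) := by
  obtain ⟨c, ⟨e⟩⟩ := Ample.exists_cocycle hL
  obtain ⟨e'⟩ := NegTwist.nonempty_iso_inv c h e
  exact (NegTwist.inv c).isInvertible_of_iso e'

include k in
/-- High powers of an ample ideal have no `H^0` and `H^1` against modules of depth two. -/
theorem eventually_vanish (𝓘 : X.IdealSheafData) {L : X.Modules}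
    (hL : ClSub.IsInverseOf L (ClSub.idealMod 𝓘)) (hamp : CohB1.IsAmple L)
    (hdepth : ∀ x : X, IsClosed ({x} : Set X) → (2 : ℕ∞) ≤ LocCoh.depth (X.presheaf.stalk x) (X.presheaf.stalk x))
    {P : X.Modules} (hP : FlatMod.IsFinLocFree P) :
    ∃ n₀, ∀ n, n₀ ≤ n → Subsingleton (Ext P (ClSub.idealMod (𝓘 ^ (n + 1))) 0) ∧
      Subsingleton (Ext P (ClSub.idealMod (𝓘 ^ (n + 1))) 1) := by
  haveI := Euler.isNoetherian_of_proper (X := X) k
  obtain ⟨c, ⟨e⟩⟩ := Ample.exists_cocycle hamp.1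
  have hc := ((c.isAmple_iff e).1 hamp).2
  have hI := isInvertible_idealMod_of_inverse hamp.1 hL
  have hI' := IdealModSec.isEffCartier_of_isInvertible hI
  let F : X.Modules := LocFreeDual20.dual P
  have hF : FlatMod.IsFinLocFree F := LocFreeHom.isFinLocFree_iHom hP
    (FinCov.isFinLocFree_of_rank (Euler.isFinLocFreeOfRank_one' Euler.isInvertible_structure))
  have hFc := Euler.isCoh_of_isFinLocFree hF
  have hd : ∀ x : X, IsClosed ({x} : Set X) → 2 ≤ LocCoh.depth (X.presheaf.stalk x) (F.presheaf.stalk x) :=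
    fun x hx => (hdepth x hx).trans (LocZ25.depth_ge_of_isFinLocFree hF x)
  obtain ⟨a, ha⟩ := NegTwist.eventually_H0_zero c k hc hFc fun x hx hcl =>
    NegTwist.not_weakAss_of_depth hFc (le_trans one_le_two (hd x hcl)) hx
  obtain ⟨b, hb⟩ := NegTwist.eventually_H1_zero c k hc hFc hd
  refine ⟨a + b, fun n hn => ?_⟩
  obtain ⟨h, hcls⟩ := ArSurf29.cls_idealMod_pow hI' (n + 1)
  obtain ⟨p⟩ := (Cube.clsMod_eq_iff h (Ample.isInvertible_tensorPow hI (n + 1))).1
    (by rw [hcls, Cube.clsMod_tensorPow hI])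
  obtain ⟨d⟩ := NegTwist.nonempty_tensor_pow_inv c hL e F (n + 1)
  let i : (DCoh.sheafHom P).obj (ClSub.idealMod (𝓘 ^ (n + 1))) ≅ NegTwist.nTwist c F (n + 1) :=
    ((LocFreeDual20.dualIso hP).app (ClSub.idealMod (𝓘 ^ (n + 1)))).symm ≪≫
      LocFreeDual20.br (ClSub.idealMod (𝓘 ^ (n + 1))) F ≪≫ ((DCoh.tensorBi (X := X)).obj F).mapIso p ≪≫ d
  have key : ∀ q, Subsingleton (Coh.HH X (NegTwist.nTwist c F (n + 1)) q) →
      Subsingleton (Ext P (ClSub.idealMod (𝓘 ^ (n + 1))) q) := fun q hq => by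
    obtain ⟨f⟩ := LocFreeDual20.nonempty_ext_addEquiv_HH hP (ClSub.idealMod (𝓘 ^ (n + 1))) q
    haveI := (Euler.hhEquiv (A := k) i q).toEquiv.subsingleton
    exact f.toEquiv.subsingleton
  exact ⟨key 0 (ha _ (by omega)), key 1 (hb _ (by omega))⟩

omit [HasExt.{u} X.Modules] in
include k in
/-- A coherent module on a scheme with an ample invertible module is a quotient of a bundle. -/
theorem exists_epi_bundle {L : X.Modules} (hL : CohB1.IsAmple L) {M : X.Modules}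
    (hM : ClSub.IsInverseOf L M) {E : X.Modules} (hE : Coh.IsCoh E) :
    ∃ (P : X.Modules) (q : P ⟶ E), FlatMod.IsFinLocFree P ∧ Epi q := by
  haveI := Euler.isNoetherian_of_proper (X := X) k
  obtain ⟨c, ⟨e⟩⟩ := Ample.exists_cocycle hL.1
  haveI := hE.1
  obtain ⟨n, hn⟩ := c.eventually_isGloballyGenerated E ((c.isAmple_iff e).1 hL).2
    (fun _ => ⟨⊤, trivial, fun W hW _ => FormalExist7.moduleFinite_sections_of_isCoh hE hW⟩)
  obtain ⟨d⟩ := c.nonempty_tensorPow_iso e n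
  obtain ⟨t⟩ := c.nonempty_tensor_modTwist E n
  have hgg := Ample.isGloballyGenerated_of_iso (((DCoh.tensorBi (X := X)).obj E).mapIso d ≪≫ t).symm (hn n le_rfl)
  have hMi : PicF.IsInvertible M := by
    obtain ⟨e'⟩ := NegTwist.nonempty_iso_inv c hM e
    exact (NegTwist.inv c).isInvertible_of_iso e'
  have hLn := Ample.isInvertible_tensorPow hL.1 n
  have hMn := Ample.isInvertible_tensorPow hMi n
  obtain ⟨u⟩ : Nonempty (CohB1.tensorMod (CohB1.tensorPow L n) (CohB1.tensorPow M n) ≅ Coh.structureModule X) :=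
    (Cube.clsMod_eq_one_iff (Ample.isInvertible_tensorMod hLn hMn)).1 (by
      rw [Cube.clsMod_tensorMod hLn hMn, Cube.clsMod_tensorPow hL.1, Cube.clsMod_tensorPow hMi, ← mul_pow,
        ← Cube.clsMod_tensorMod hL.1 hMi, (Cube.clsMod_eq_one_iff _).2 hM, one_pow])
  obtain ⟨N, p, hp⟩ := CurveMult.exists_epi_freeMod
    (QCoh.isCoh_of_iso (((DCoh.tensorBi (X := X)).obj E).mapIso d ≪≫ t).symm (Euler.isCoh_modTwist c hE n)) hgg
  let T := DCoh.tensorBi (X := X)
  let G := T.flip.obj (CohB1.tensorPow M n)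
  haveI := hp
  haveI : PreservesColimitsOfSize.{0, 0} G := inferInstance
  haveI : G.PreservesEpimorphisms := inferInstance
  let a : G.obj (CohB1.tensorMod E (CohB1.tensorPow L n)) ≅ E :=
    OX.tensorAssoc E (CohB1.tensorPow L n) (CohB1.tensorPow M n) ≪≫ (T.obj E).mapIso u ≪≫
      LocFreeDual20.unitR E
  have hfl : FlatMod.IsFinLocFree (CohB1.tensorMod (FlatMod.freeMod X N) (CohB1.tensorPow M n)) :=
    OX.isFinLocFree_tensor (OX.isFinLocFree_freeMod X N)
      (FinCov.isFinLocFree_of_rank (Euler.isFinLocFreeOfRank_one' hMn))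
  exact exists_epi_of_map G p a hfl

include k in
/-- Bijectivity for every coherent module. -/
theorem homBij_of_isCoh (𝓘 : X.IdealSheafData) {L : X.Modules}
    (hL : ClSub.IsInverseOf L (ClSub.idealMod 𝓘)) (hamp : CohB1.IsAmple L)
    (hdepth : ∀ x : X, IsClosed ({x} : Set X) → (2 : ℕ∞) ≤ LocCoh.depth (X.presheaf.stalk x) (X.presheaf.stalk x))
    {E : X.Modules} (hE : Coh.IsCoh E) : Lef.HomToFormalBijective 𝓘 E := by
  haveI := Euler.isNoetherian_of_proper (X := X) k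
  obtain ⟨P, q, hP, hq⟩ := exists_epi_bundle k hamp hL hE
  obtain ⟨P₁, r, hP₁, hr⟩ := exists_epi_bundle k hamp hL
    (QCoh.isCoh_kernel q (Euler.isCoh_of_isFinLocFree hP) hE)
  exact homBij_of_epi 𝓘 q r (homBij_of_vanish 𝓘 P (eventually_vanish k 𝓘 hL hamp hdepth hP))
    (homBij_of_vanish 𝓘 P₁ (eventually_vanish k 𝓘 hL hamp hdepth hP₁))

end Ample

end GrothLib.LefAmp7
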